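import Cfsg.Agent.H665.NoPQ
import Cfsg.Agent.H674.Codegree
import Cfsg.Statements.S2350
import Cfsg.Statements.S4760
import Cfsg.Statements.S0928

/-!
# S4527: characters of `p`-defect zero, general tools (helper19)

* `congr` : transport along an isomorphism;
* `of_le`, `of_dvd` : a degree divisible by the `p`-part of the order;
* `of_knorr` : an irreducible character vanishing at the elements of order `p` (Knörr, S0928);
* `of_cyclic` : simple groups with cyclic Sylow `p`-subgroups (S2350 and Itô-Michler S4760);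
* `of_not_sq_dvd` : simple groups of order not divisible by `p ^ 2`.
-/

set_option autoImplicit false

open Cfsg

namespace Cfsg.Agent.R2.DZ

open Cfsg.Agent.H665.NoPQ

universe u v

theorem congr {p : ℕ} {G : Type u} {H : Type v} [Group G] [Group H] (e : G ≃* H) (h : HasDZ p G) : HasDZ p H := by
  obtain ⟨χ, hχ⟩ := h
  refine ⟨⟨_, Cfsg.Agent.Characters.Core.isIrr_comp e.symm.toMonoidHom e.symm.surjective χ.2⟩, ?_⟩
  rw [← Nat.card_congr e.toEquiv, ← hχ]
  congr 1
  simp [charDegree]

/-- a character whose degree is divisible by the `p`-part of the order -/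
theorem of_le {p : ℕ} {G : Type u} [Group G] [Finite G] {χ : G → ℂ} (hχ : IsIrrCharacter G χ)
    (h : (Nat.card G).factorization p ≤ (charDegree χ).factorization p) : HasDZ p G := by
  refine ⟨⟨χ, hχ⟩, le_antisymm ?_ h⟩
  have hdvd := Cfsg.Agent.H674.Codegree.charDegree_dvd_card hχ
  exact (Nat.factorization_le_iff_dvd (fun h0 => by rw [h0] at hdvd; exact Nat.card_pos.ne' (zero_dvd_iff.1 hdvd))
    Nat.card_pos.ne').2 hdvd p

/-- the form with divisibility: `p ^ a` divides the degree and `p ^ (a + 1)` does not divide the order -/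
theorem of_dvd {p : ℕ} (hp : p.Prime) {G : Type u} [Group G] [Finite G] {χ : G → ℂ} (hχ : IsIrrCharacter G χ) {a : ℕ}
    (h : p ^ a ∣ charDegree χ) (h2 : ¬ p ^ (a + 1) ∣ Nat.card G) : HasDZ p G := by
  refine of_le hχ ?_
  have hdvd := Cfsg.Agent.H674.Codegree.charDegree_dvd_card hχ
  have h0 : charDegree χ ≠ 0 := fun h0 => by rw [h0] at hdvd; exact Nat.card_pos.ne' (zero_dvd_iff.1 hdvd)
  have h3 := (hp.pow_dvd_iff_le_factorization h0).1 h
  by_contra hc
  push Not at hc
  refine h2 ((hp.pow_dvd_iff_le_factorization Nat.card_pos.ne').2 ?_)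
  omega

/-- Knörr's theorem: it is enough that `χ` vanishes at the elements of order `p` -/
theorem of_knorr {p : ℕ} [Fact p.Prime] {G : Type u} [Group G] [Finite G] (χ : IrrCharacter G)
    (h : ∀ g : G, orderOf g = p → (χ : G → ℂ) g = 0) : HasDZ p G :=
  ⟨χ, by exact CfsgFrozen.S0928 p χ h⟩

/-- a simple group with a cyclic Sylow `p`-subgroup -/
theorem of_cyclic {p : ℕ} [hp : Fact p.Prime] {G : Type u} [Group G] [Finite G] [IsSimpleGroup G]
    (hna : ¬ IsMulCommutative G) (P : Sylow p G) (hP : IsCyclic P) : HasDZ p G := by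
  by_cases hd : p ∣ Nat.card G
  swap
  · exact hasDZ_of_not_dvd hd
  have h1 : ¬ ∀ χ : Cfsg.IrrCharacter G, ¬ p ∣ Cfsg.charDegree (χ : G → ℂ) := by
    intro h
    obtain ⟨hn, hc⟩ := (CfsgFrozen.S4760 p P).2 h
    rcases hn.eq_bot_or_eq_top with hb | ht
    · have h2 : Nat.card (P : Subgroup G) = p ^ (Nat.card G).factorization p := P.card_eq_multiplicity
      rw [hb, Subgroup.card_bot] at h2
      have h3 := (hp.out.dvd_iff_one_le_factorization Nat.card_pos.ne').1 hd
      have h4 := Nat.one_lt_pow (by omega : (Nat.card G).factorization p ≠ 0) hp.out.one_lt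
      omega
    · apply hna
      refine ⟨⟨fun a b => ?_⟩⟩
      have ha : a ∈ (P : Subgroup G) := by rw [ht]; trivial
      have hb : b ∈ (P : Subgroup G) := by rw [ht]; trivial
      exact congrArg Subtype.val (hc.is_comm.comm (⟨a, ha⟩ : P) ⟨b, hb⟩)
  push Not at h1
  obtain ⟨χ, hχ⟩ := h1
  obtain ⟨d, hd1, hd2⟩ := CfsgFrozen.S2350 hna P hP (χ : G → ℂ) χ.2
  have h5 : charDegree (χ : G → ℂ) = d := by simp [charDegree, hd1]
  rw [h5] at hχ
  rcases hd2 with h6 | h6
  · refine of_le χ.2 ?_
    rw [h5]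
    have h7 : Nat.card P = p ^ (Nat.card G).factorization p := P.card_eq_multiplicity
    rw [h7] at h6
    have h0 : d ≠ 0 := by
      rintro rfl
      have := Cfsg.Agent.H674.Codegree.charDegree_spec χ.2
      omega
    exact (hp.out.pow_dvd_iff_le_factorization h0).1 h6
  · exact absurd (Nat.dvd_gcd dvd_rfl hχ) (by rw [h6]; exact hp.out.one_lt.ne' ∘ Nat.dvd_one.1)

/-- a simple group of order not divisible by `p ^ 2` -/
theorem of_not_sq_dvd {p : ℕ} (hp : p.Prime) {G : Type u} [Group G] [Finite G] [IsSimpleGroup G]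
    (hna : ¬ IsMulCommutative G) (h : ¬ p ^ 2 ∣ Nat.card G) : HasDZ p G := by
  have : Fact p.Prime := ⟨hp⟩
  by_cases hd : p ∣ Nat.card G
  swap
  · exact hasDZ_of_not_dvd hd
  have P : Sylow p G := Classical.arbitrary _
  refine of_cyclic hna P (isCyclic_of_prime_card (p := p) ?_)
  have h7 : Nat.card P = p ^ (Nat.card G).factorization p := P.card_eq_multiplicity
  have h1 := (hp.dvd_iff_one_le_factorization Nat.card_pos.ne').1 hd
  have h2 : ¬ 2 ≤ (Nat.card G).factorization p := fun h2 => h ((hp.pow_dvd_iff_le_factorization Nat.card_pos.ne').2 h2)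
  have h3 : (Nat.card G).factorization p = 1 := by omega
  rw [h7, h3, pow_one]

end Cfsg.Agent.R2.DZ
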