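import Cfsg.Prelude.Def_Classification2
import Cfsg.Agent.R2.DZ.Tools

/-!
# S4527: characters of `p`-defect zero of the simple groups, `p ≥ 5`: the boxes (helper19)

Each row of the classification is a `Row P` : every finite simple non-abelian group with the property `P` has an
irreducible character of `p`-defect zero for every prime `p ≥ 5`.
-/

set_option autoImplicit false

open Cfsg

namespace Cfsg.Agent.R2.DZ

open Cfsg.Agent.H665.NoPQ

universe u

/-- the row of the property `P` -/
def Row (P : ∀ (G : Type u) [Group G], Prop) : Prop :=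
  ∀ (G : Type u) [Group G] [Finite G] [IsSimpleGroup G], ¬ IsMulCommutative G → P G → ∀ p : ℕ, p.Prime → 5 ≤ p →
    HasDZ p G

/-- the assembly -/
theorem main (alt : Row.{u} @IsAlternating) (psl : Row.{u} @IsPSL) (psp : Row.{u} @IsPSp) (psu : Row.{u} @IsPSU)
    (oodd : Row.{u} @IsPOmegaOdd) (oplus : Row.{u} @IsPOmegaPlus) (ominus : Row.{u} @IsPOmegaMinus)
    (g2 : Row.{u} @Lie.IsoChevG2) (f4 : Row.{u} @Lie.IsoF4) (e6 : Row.{u} @Lie.IsoChevE6) (e7 : Row.{u} @Lie.IsoE7)
    (e8 : Row.{u} @Lie.IsoE8) (te6 : Row.{u} @Lie.Iso2E6) (td4 : Row.{u} @Lie.Iso3D4) (sz : Row.{u} @Lie.IsoSuzuki)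
    (ree : Row.{u} @Lie.IsoRee) (tf4 : Row.{u} @Lie.Iso2F4) (tits : Row.{u} @Lie.IsoTits)
    (spor : Row.{u} @IsSporadicGroup) (G : Type u) [Group G] [Finite G] [IsSimpleGroup G] (hna : ¬ IsMulCommutative G)
    (hk : IsKnownSimple' G) (p : ℕ) (hp : p.Prime) (h5 : 5 ≤ p) : HasDZ p G := by
  rcases hk with h | h | h | h | h | h | h | h | h | h
  · exfalso
    apply hna
    have : Fact (Nat.card G).Prime := ⟨h⟩
    have := isCyclic_of_prime_card (p := Nat.card G) (α := G) rfl
    exact ⟨⟨fun a b => (IsCyclic.commGroup (α := G)).mul_comm a b⟩⟩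
  · exact alt G hna h p hp h5
  · exact psl G hna h p hp h5
  · exact psp G hna h p hp h5
  · exact psu G hna h p hp h5
  · exact oodd G hna h p hp h5
  · exact oplus G hna h p hp h5
  · exact ominus G hna h p hp h5
  · rcases h with h | h | h | h | h | h | h | h | h | h | h
    · exact g2 G hna h p hp h5
    · exact f4 G hna h p hp h5
    · exact e6 G hna h p hp h5
    · exact e7 G hna h p hp h5
    · exact e8 G hna h p hp h5
    · exact te6 G hna h p hp h5
    · exact td4 G hna h p hp h5
    · exact sz G hna h p hp h5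
    · exact ree G hna h p hp h5
    · exact tf4 G hna h p hp h5
    · exact tits G hna h p hp h5
  · exact spor G hna h p hp h5

end Cfsg.Agent.R2.DZ
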